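import Mathlib
import Cfsg.Agent.Lib.TwoGroup.Recognition

/-!
# Coprime elements normalising cyclic and dihedral groups, cyclic-by-cyclic criteria
-/

set_option autoImplicit false

namespace Cfsg.Agent.Lib.TwoGroup

variable {G : Type*} [Group G]

/-- An element of order prime to `φ (orderOf a)` normalising `⟨a⟩` centralises it. -/
theorem commute_of_conj_mem_zpowers [Finite G] {a c : G} (h : c * a * c⁻¹ ∈ Subgroup.zpowers a)
    (hc : (orderOf c).Coprime (Nat.totient (orderOf a))) : Commute c a := by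
  obtain ⟨t, ht⟩ := mem_powers_iff_mem_zpowers.mpr h
  replace ht : c * a * c⁻¹ = a ^ t := ht.symm
  have hiter : ∀ i : ℕ, c ^ i * a * (c ^ i)⁻¹ = a ^ (t ^ i) := by
    intro i
    induction i with
    | zero => simp
    | succ i ih =>
      rw [pow_succ' c i, show c * c ^ i * a * (c * c ^ i)⁻¹ = c * (c ^ i * a * (c ^ i)⁻¹) * c⁻¹ by group,
        ih, ← conj_pow, ht, ← pow_mul, pow_succ']
  haveI : NeZero (orderOf a) := ⟨(orderOf_pos a).ne'⟩
  have h1 := hiter (orderOf c)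
  rw [pow_orderOf_eq_one, one_mul, inv_one, mul_one] at h1
  nth_rw 1 [← pow_one a] at h1
  rw [pow_eq_pow_iff_modEq, ← ZMod.natCast_eq_natCast_iff, Nat.cast_one, Nat.cast_pow] at h1
  have hu : IsUnit (t : ZMod (orderOf a)) :=
    IsUnit.of_pow_eq_one h1.symm (orderOf_pos c).ne'
  obtain ⟨u, hu'⟩ := hu
  have hu1 : u = 1 := by
    rw [← orderOf_eq_one_iff]
    refine Nat.eq_one_of_dvd_coprimes hc (orderOf_dvd_of_pow_eq_one ?_) ?_
    · ext; rw [Units.val_pow_eq_pow_val, hu', ← h1, Units.val_one]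
    · rw [← ZMod.card_units_eq_totient]; exact orderOf_dvd_card
  have h2 : a ^ t = a := by
    conv_rhs => rw [← pow_one a]
    rw [pow_eq_pow_iff_modEq, ← ZMod.natCast_eq_natCast_iff, Nat.cast_one, ← hu', hu1, Units.val_one]
  rw [h2, mul_inv_eq_iff_eq_mul] at ht
  exact ht

/-- An element commuting with `a` that moves `b` by a power of `a`, of coprime order, centralises `b`. -/
theorem commute_of_conj_eq_mul_zpowers [Finite G] {a b c : G} (hca : Commute c a)
    (hcb : b⁻¹ * (c * b * c⁻¹) ∈ Subgroup.zpowers a) (hc : (orderOf c).Coprime (orderOf a)) :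
    Commute c b := by
  obtain ⟨d, hd, hd'⟩ : ∃ d ∈ Subgroup.zpowers a, c * b * c⁻¹ = b * d :=
    ⟨_, hcb, (mul_inv_cancel_left _ _).symm⟩
  have hcd : Commute c d := by
    obtain ⟨s, rfl⟩ := Subgroup.mem_zpowers_iff.mp hd
    exact hca.zpow_right s
  have hiter : ∀ i : ℕ, c ^ i * b * (c ^ i)⁻¹ = b * d ^ i := by
    intro i
    induction i with
    | zero => simp
    | succ i ih =>
      rw [pow_succ' c i, show c * c ^ i * b * (c * c ^ i)⁻¹ = c * (c ^ i * b * (c ^ i)⁻¹) * c⁻¹ by group,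
        ih, show c * (b * d ^ i) * c⁻¹ = (c * b * c⁻¹) * (c * d ^ i * c⁻¹) by group, hd',
        (hcd.pow_right i).eq, mul_inv_cancel_right, mul_assoc, ← pow_succ']
  have h1 := hiter (orderOf c)
  rw [pow_orderOf_eq_one, one_mul, inv_one, mul_one, eq_comm, mul_eq_left] at h1
  have hd1 : d = 1 := orderOf_eq_one_iff.mp (Nat.eq_one_of_dvd_coprimes hc
    (orderOf_dvd_of_pow_eq_one h1) (orderOf_dvd_of_mem_zpowers hd))
  rw [hd1, mul_one, mul_inv_eq_iff_eq_mul] at hd'
  exact hd'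

/-- Subgroups of dihedral groups are cyclic or dihedral. -/
theorem cyclic_or_dihedral_pair {m : ℕ} (S : Subgroup G) (f : S →* DihedralGroup m)
    (hf : Function.Injective f) :
    IsCyclic S ∨ ∃ a b : G, a ∈ S ∧ b ∈ S ∧ b * b = 1 ∧ b * a * b⁻¹ = a⁻¹ ∧
      b ∉ Subgroup.zpowers a ∧ ∀ g ∈ S, g ∈ Subgroup.zpowers a ∨ b * g ∈ Subgroup.zpowers a := by
  set R : Subgroup (DihedralGroup m) := Subgroup.zpowers (DihedralGroup.r 1) with hR
  have hr : ∀ i : ZMod m, DihedralGroup.r i ∈ R := fun i => by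
    obtain ⟨k, rfl⟩ := ZMod.intCast_surjective i
    exact ⟨k, by simp⟩
  have hsr : ∀ i : ZMod m, DihedralGroup.sr i ∉ R := by
    rintro i ⟨k, hk⟩
    simp at hk
  haveI : IsCyclic ↥(f.range ⊓ R) := Subgroup.isCyclic_of_le (H' := R) inf_le_right
  obtain ⟨⟨q, hq⟩, hgen⟩ := IsCyclic.exists_generator (α := ↥(f.range ⊓ R))
  obtain ⟨⟨a0, hqa⟩, hqR⟩ := hq
  have hC : ∀ g : S, f g ∈ R → g ∈ Subgroup.zpowers a0 := by
    intro g hg
    obtain ⟨k, hk⟩ := hgen ⟨f g, ⟨g, rfl⟩, hg⟩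
    refine ⟨k, hf ?_⟩
    show f (a0 ^ k) = f g
    rw [map_zpow, hqa]
    simpa using congrArg Subtype.val hk
  by_cases hall : ∀ g : S, f g ∈ R
  · exact Or.inl ⟨⟨a0, fun g => hC g (hall g)⟩⟩
  push Not at hall
  obtain ⟨b, hb⟩ := hall
  obtain ⟨i, hi⟩ : ∃ i, f b = DihedralGroup.sr i := by
    rcases hfb : f b with j | j
    · exact absurd (hfb ▸ hr j) hb
    · exact ⟨j, rfl⟩
  obtain ⟨j, hj⟩ : ∃ j, f a0 = DihedralGroup.r j := by
    rcases hfa : f a0 with j | j
    · exact ⟨j, rfl⟩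
    · rw [← hqa, hfa] at hqR
      exact absurd hqR (hsr j)
  have hbb : b * b = 1 := hf (by rw [map_mul, map_one, hi, DihedralGroup.sr_mul_self])
  have hinv : b * a0 * b⁻¹ = a0⁻¹ := hf (by
    simp [hi, hj])
  have hzp : ∀ g : S, g ∈ Subgroup.zpowers a0 → (g : G) ∈ Subgroup.zpowers (a0 : G) := by
    rintro g ⟨k, rfl⟩
    exact ⟨k, by simp⟩
  refine Or.inr ⟨a0, b, a0.2, b.2, congrArg Subtype.val hbb, congrArg Subtype.val hinv, ?_, ?_⟩
  · rintro ⟨k, hk⟩
    have hk' : a0 ^ k = b := Subtype.ext (by simpa using hk)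
    refine hb ?_
    rw [← hk', map_zpow, hj]
    exact R.zpow_mem (hr j) k
  · intro g hg
    rcases hfg : f ⟨g, hg⟩ with l | l
    · exact Or.inl (hzp _ (hC _ (hfg ▸ hr l)))
    · refine Or.inr (hzp (b * ⟨g, hg⟩) (hC _ ?_))
      rw [map_mul, hi, hfg, DihedralGroup.sr_mul_sr]
      exact hr _

/-- A lift of prime-to-`|S|` order of a generator of a cyclic quotient of coprime order. -/
theorem exists_coprime_lift [Finite G] (S : Subgroup G) [S.Normal] [IsCyclic (G ⧸ S)]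
    (hco : (Nat.card S).Coprime S.index) :
    ∃ c : G, orderOf c = S.index ∧ ∀ g : G, ∃ k : ℕ, g * (c ^ k)⁻¹ ∈ S := by
  obtain ⟨q, hq⟩ := IsCyclic.exists_generator (α := G ⧸ S)
  obtain ⟨c0, rfl⟩ := QuotientGroup.mk_surjective q
  have ho : orderOf (c0 : G ⧸ S) = S.index := orderOf_eq_card_of_forall_mem_zpowers hq
  have hco' : (Nat.card S).Coprime (orderOf (c0 : G ⧸ S)) := ho ▸ hco
  obtain ⟨j, hj⟩ := exists_pow_eq_self_of_coprime hco'
  have ho' : orderOf ((c0 ^ Nat.card S : G) : G ⧸ S) = S.index := by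
    rw [QuotientGroup.mk_pow, hco'.symm.orderOf_pow, ho]
  refine ⟨c0 ^ Nat.card S, Nat.dvd_antisymm (orderOf_dvd_of_pow_eq_one ?_)
    (ho' ▸ orderOf_map_dvd (QuotientGroup.mk' S) _), fun g => ?_⟩
  · rw [← pow_mul, Subgroup.card_mul_index, pow_card_eq_one']
  · obtain ⟨k, hk⟩ := mem_powers_iff_mem_zpowers.mpr (hq (g : G ⧸ S))
    refine ⟨j * k, (QuotientGroup.eq_one_iff _).mp ?_⟩
    rw [QuotientGroup.mk_mul, QuotientGroup.mk_inv, QuotientGroup.mk_pow, QuotientGroup.mk_pow,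
      pow_mul, hj, show (c0 : G ⧸ S) ^ k = (g : G ⧸ S) from hk, mul_inv_cancel]

/-- A cyclic normal subgroup extended by a centralising element of coprime order is cyclic. -/
theorem isCyclic_of_central_lift [Finite G] (S : Subgroup G) {s c : G}
    (hs : orderOf s = Nat.card S) (hc : orderOf c = S.index)
    (hco : (Nat.card S).Coprime S.index) (hcs : Commute c s) : IsCyclic G :=
  isCyclic_of_orderOf_eq_card (c * s) (by
    rw [hcs.orderOf_mul_eq_mul_orderOf_of_coprime (by rw [hs, hc]; exact hco.symm), hs, hc,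
      mul_comm, Subgroup.card_mul_index])

end Cfsg.Agent.Lib.TwoGroup
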